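import Groth.Agent.H06Unram.AdaptedCoords
import Groth.Agent.H8Norm.SmoothCoords

/-!
# Etale coordinates extending a family with independent differentials
-/

set_option autoImplicit false
set_option linter.unusedSectionVars false
set_option linter.style.haveILetI false
set_option maxHeartbeats 1600000
set_option backward.isDefEq.respectTransparency false
universe u

open TensorProduct IsLocalRing
open scoped KaehlerDifferential
open Groth.Agent.H06Unram

namespace Groth.Agent.H8Props.NeronBlowup

/-- A family with independent differentials at a smooth point extends to étale coordinates. -/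
theorem exists_etale_coordinates {A B : Type u} [CommRing A] [CommRing B] [Algebra A B]
    [Algebra.FinitePresentation A B] (q : Ideal B) [q.IsPrime] [Algebra.IsSmoothAt A q] {r : ℕ} (g : Fin r → B)
    (hw : LinearIndependent (ResidueField (Localization.AtPrime q)) fun i =>
      (1 : ResidueField (Localization.AtPrime q)) ⊗ₜ[Localization.AtPrime q]
        KaehlerDifferential.D A (Localization.AtPrime q) (algebraMap B (Localization.AtPrime q) (g i))) :
    ∃ (f : B) (_ : f ∉ q) (m : ℕ) (g' : Fin m → Localization.Away f),
      (MvPolynomial.aeval (Sum.elim (fun i => algebraMap B (Localization.Away f) (g i)) g') :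
          MvPolynomial (Fin r ⊕ Fin m) A →ₐ[A] Localization.Away f).toRingHom.Etale := by
  classical
  let k := ResidueField (Localization.AtPrime q)
  haveI : Algebra.EssFiniteType B (Localization.AtPrime q) := Algebra.EssFiniteType.of_isLocalization (Localization.AtPrime q) q.primeCompl
  haveI : Algebra.EssFiniteType A (Localization.AtPrime q) := Algebra.EssFiniteType.comp A B (Localization.AtPrime q)
  let δ : B → k ⊗[(Localization.AtPrime q)] Ω[(Localization.AtPrime q)⁄A] := fun b => (1 : k) ⊗ₜ[(Localization.AtPrime q)] KaehlerDifferential.D A (Localization.AtPrime q) (algebraMap B (Localization.AtPrime q) b)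
  have hspan : Submodule.span (Localization.AtPrime q) (Set.range fun b : B => KaehlerDifferential.D A (Localization.AtPrime q) (algebraMap B (Localization.AtPrime q) b)) = ⊤ := by
    rw [eq_top_iff]
    rintro y -
    obtain ⟨⟨m, s⟩, hs⟩ := IsLocalizedModule.surj q.primeCompl (KaehlerDifferential.map A A B (Localization.AtPrime q)) y
    have hm : KaehlerDifferential.map A A B (Localization.AtPrime q) m ∈
        Submodule.span (Localization.AtPrime q) (Set.range fun b : B => KaehlerDifferential.D A (Localization.AtPrime q) (algebraMap B (Localization.AtPrime q) b)) := by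
      clear hs
      have hm' : m ∈ Submodule.span B (Set.range (KaehlerDifferential.D A B)) := by
        rw [KaehlerDifferential.span_range_derivation]; exact Submodule.mem_top
      induction hm' using Submodule.span_induction with
      | mem z hz => obtain ⟨b, rfl⟩ := hz; rw [KaehlerDifferential.map_D]; exact Submodule.subset_span ⟨b, rfl⟩
      | zero => rw [map_zero]; exact zero_mem _
      | add a b _ _ ha hb => rw [map_add]; exact add_mem ha hb
      | smul a b _ hb => rw [map_smul, algebra_compatible_smul (Localization.AtPrime q)]; exact Submodule.smul_mem _ _ hb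
    rw [← hs, Submonoid.smul_def, algebra_compatible_smul (Localization.AtPrime q)] at hm
    exact (Submodule.smul_mem_iff_of_isUnit _ (IsLocalization.map_units (Localization.AtPrime q) s)).1 hm
  have hspank : Submodule.span k (Set.range δ) = ⊤ := by
    rw [eq_top_iff]
    rintro z -
    induction z using TensorProduct.induction_on with
    | zero => exact zero_mem _
    | add a b ha hb => exact add_mem ha hb
    | tmul c y =>
      have hy : y ∈ Submodule.span (Localization.AtPrime q) (Set.range fun b : B => KaehlerDifferential.D A (Localization.AtPrime q) (algebraMap B (Localization.AtPrime q) b)) :=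
        hspan ▸ Submodule.mem_top
      induction hy using Submodule.span_induction generalizing c with
      | mem z hz =>
        obtain ⟨b, rfl⟩ := hz
        rw [show c = c • (1 : k) by rw [smul_eq_mul, mul_one], ← TensorProduct.smul_tmul']
        exact Submodule.smul_mem _ _ (Submodule.subset_span ⟨b, rfl⟩)
      | zero => rw [TensorProduct.tmul_zero]; exact zero_mem _
      | add a b _ _ ha hb => rw [TensorProduct.tmul_add]; exact add_mem (ha c) (hb c)
      | smul a b _ hb => rw [← TensorProduct.smul_tmul]; exact hb _
  let w : Fin r → k ⊗[(Localization.AtPrime q)] Ω[(Localization.AtPrime q)⁄A] := fun i => δ (g i)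
  obtain ⟨bs, hbt, hwb, htb, hbli⟩ := exists_linearIndepOn_id_extension hw.linearIndepOn_id
    (show Set.range w ⊆ Set.range δ from by rintro _ ⟨i, rfl⟩; exact ⟨g i, rfl⟩)
  haveI : Finite bs := LinearIndependent.finite hbli
  let extra := (bs \ Set.range w : Set _)
  haveI : Finite extra := Finite.Set.subset bs Set.sdiff_subset
  obtain ⟨m, ⟨e⟩⟩ := Finite.exists_equiv_fin extra
  choose b' hb' using fun j : Fin m => hbt (e.symm j).2.1
  let v : Fin r ⊕ Fin m → B := Sum.elim g b'
  let vk : Fin r ⊕ Fin m → k ⊗[(Localization.AtPrime q)] Ω[(Localization.AtPrime q)⁄A] := Sum.elim w (fun j => (e.symm j : _))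
  have hvk : ∀ i, δ (v i) = vk i := by rintro (i | j); exacts [rfl, hb' j]
  have hrange : Set.range vk = bs := by
    rw [Set.Sum.elim_range, show Set.range (fun j => ((e.symm j : extra) : k ⊗[(Localization.AtPrime q)] Ω[(Localization.AtPrime q)⁄A])) = extra by
      rw [← Function.comp_def, Set.range_comp, e.symm.range_eq_univ, Set.image_univ, Subtype.range_coe]]
    exact Set.union_sdiff_cancel hwb
  have hinj : Function.Injective vk := by
    refine hw.injective.sumElim (Subtype.val_injective.comp e.symm.injective) fun i j h => ?_
    exact (e.symm j).2.2 ⟨i, h⟩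
  have hli : LinearIndependent k vk := by
    rw [← linearIndepOn_id_range_iff hinj, hrange]; exact hbli
  have hsp : ⊤ ≤ Submodule.span k (Set.range vk) := by
    rw [hrange, ← hspank]; exact Submodule.span_le.2 htb
  obtain ⟨basis, hbasis⟩ := Module.exists_basis_of_basis_baseChange
    (fun i => KaehlerDifferential.D A (Localization.AtPrime q) (algebraMap B (Localization.AtPrime q) (v i)))
    (by convert hli using 1; exact funext hvk)
    (by
      rw [eq_top_iff]
      refine hsp.trans (le_of_eq ?_)
      congr 1
      exact congrArg Set.range (funext fun i => (hvk i).symm))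
    (Module.Flat.rTensor_preserves_injective_linearMap _ Subtype.val_injective)
  let P := MvPolynomial (Fin r ⊕ Fin m) A
  let ψ : P →ₐ[A] B := MvPolynomial.aeval v
  letI : Algebra P B := ψ.toRingHom.toAlgebra
  haveI : IsScalarTower A P B := IsScalarTower.of_algebraMap_eq fun a => (ψ.commutes a).symm
  let bP := (KaehlerDifferential.mvPolynomialBasis A (Fin r ⊕ Fin m)).baseChange (Localization.AtPrime q)
  have hmap : KaehlerDifferential.mapBaseChange A P (Localization.AtPrime q) = (bP.equiv basis (Equiv.refl _)).toLinearMap := by
    refine bP.ext fun i => ?_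
    rw [Module.Basis.baseChange_apply, KaehlerDifferential.mvPolynomialBasis_apply,
      KaehlerDifferential.mapBaseChange_tmul, KaehlerDifferential.map_D, one_smul,
      LinearEquiv.coe_coe, show (1 : (Localization.AtPrime q)) ⊗ₜ[P] KaehlerDifferential.D A P (MvPolynomial.X i) = bP i by
        rw [Module.Basis.baseChange_apply, KaehlerDifferential.mvPolynomialBasis_apply],
      Module.Basis.equiv_apply, Equiv.refl_apply, hbasis, IsScalarTower.algebraMap_apply P B (Localization.AtPrime q)]
    exact congrArg (fun z => KaehlerDifferential.D A (Localization.AtPrime q) (algebraMap B (Localization.AtPrime q) z)) (MvPolynomial.aeval_X _ i)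
  haveI : Algebra.IsEtaleAt P q := by
    show Algebra.FormallyEtale P (Localization.AtPrime q)
    rw [Tower.formallyEtale_iff A P (Localization.AtPrime q), hmap]
    exact LinearEquiv.bijective _
  haveI : Algebra.FinitePresentation P B := Algebra.FinitePresentation.of_restrict_scalars_finitePresentation A P B
  obtain ⟨f₁, hf₁, hf₁e⟩ := Algebra.exists_etale_of_isEtaleAt (R := P) q
  let f := f₁
  have hf : f ∉ q := hf₁
  haveI : Algebra.Etale P (Localization.Away f) := by
    exact hf₁e
  refine ⟨f, hf, m, fun j => algebraMap B _ (b' j), ?_⟩
  have : (MvPolynomial.aeval (Sum.elim (fun i => algebraMap B (Localization.Away f) (g i))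
        fun j => algebraMap B (Localization.Away f) (b' j)) :
          MvPolynomial (Fin r ⊕ Fin m) A →ₐ[A] Localization.Away f).toRingHom =
        algebraMap P (Localization.Away f) := by
    rw [IsScalarTower.algebraMap_eq P B (Localization.Away f)]
    show _ = ((IsScalarTower.toAlgHom A B (Localization.Away f)).comp ψ).toRingHom
    rw [MvPolynomial.comp_aeval]
    congr 2
    ext (i | j) <;> rfl
  rw [this, RingHom.etale_algebraMap]
  infer_instance

end Groth.Agent.H8Props.NeronBlowup
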