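import Groth.Prelude.Def_BlowUp2
import Mathlib.RingTheory.Smooth.Basic
import Mathlib.RingTheory.Etale.Basic
import Mathlib.RingTheory.RingHom.Etale
import Mathlib.RingTheory.Flat.TorsionFree
import Mathlib.RingTheory.Smooth.Flat
import Mathlib.RingTheory.TensorProduct.Maps

/-!
# Dilatations of smooth algebras along smooth centres of the special fibre
-/

set_option autoImplicit false
set_option linter.unusedSectionVars false
set_option linter.style.haveILetI false
set_option maxHeartbeats 1600000
set_option synthInstance.maxHeartbeats 200000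
universe u

open TensorProduct MvPolynomial

namespace Groth.Agent.H8Props.NeronBlowup

variable {R A : Type u} [CommRing R] [CommRing A] [Algebra R A]

/-- The target of the base change which divides the first coordinates by `π`. -/
noncomputable def dilate (π : R) (r m : ℕ) :
    MvPolynomial (Fin r ⊕ Fin m) R →ₐ[R] MvPolynomial (ULift.{u} (Fin r ⊕ Fin m)) R :=
  aeval (Sum.elim (fun i => C π * X ⟨Sum.inl i⟩) fun j => X ⟨Sum.inr j⟩)

/-- The affine blowup of a smooth algebra along a centre cut out by part of an étale coordinate system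
and the uniformizer is smooth. -/
theorem smooth_dilatation (π : R) (hπ : π ∈ nonZeroDivisors R) (p : Ideal A)
    (f : A) {r m : ℕ} (g : Fin r → A) (hg : ∀ i, g i ∈ p)
    (g' : Fin m → Localization.Away f)
    (het : (aeval (Sum.elim (fun i => algebraMap A (Localization.Away f) (g i)) g') :
      MvPolynomial (Fin r ⊕ Fin m) R →ₐ[R] Localization.Away f).toRingHom.Etale)
    (hgen : ∀ z ∈ p, ∃ e : ℕ, f ^ e * z ∈ Ideal.span (Set.range g) ⊔ Ideal.span {algebraMap R A π}) :
    Algebra.Smooth R (Localization.Away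
      (algebraMap A (BlowUp.affineAlgebra A p (algebraMap R A π)) f)) := by
  let P := MvPolynomial (Fin r ⊕ Fin m) R
  let P' := MvPolynomial (ULift.{u} (Fin r ⊕ Fin m)) R
  let S := Localization.Away f
  let ψ : P →ₐ[R] S := aeval (Sum.elim (fun i => algebraMap A S (g i)) g')
  letI : Algebra P S := ψ.toRingHom.toAlgebra
  haveI : IsScalarTower R P S := IsScalarTower.of_algebraMap_eq fun x => (ψ.commutes x).symm
  haveI : Algebra.Etale P S := RingHom.etale_algebraMap.1 het
  letI : Algebra P P' := (dilate π r m).toRingHom.toAlgebra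
  haveI : IsScalarTower R P P' := IsScalarTower.of_algebraMap_eq fun x => ((dilate π r m).commutes x).symm
  let B := P' ⊗[P] S
  haveI : Algebra.Smooth R P' := ⟨inferInstance, inferInstance⟩
  haveI : Algebra.Smooth R B := Algebra.Smooth.comp R P' B
  -- `π` is regular on `B`
  have hregB : ∀ b : B, algebraMap R B π * b = 0 → b = 0 := fun b hb => by
    refine (Module.Flat.isSMulRegular_of_nonZeroDivisors (M := B) hπ) ?_
    show π • b = π • (0 : B)
    rw [smul_zero]
    exact (Algebra.smul_def π b).trans hb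
  let iB : A →ₐ[R] B :=
    ((Algebra.TensorProduct.includeRight : S →ₐ[P] B).restrictScalars R).comp (IsScalarTower.toAlgHom R A S)
  have hiB : ∀ a, iB a = (1 : P') ⊗ₜ[P] algebraMap A S a := fun _ => rfl
  have hiBg : ∀ i, iB (g i) = algebraMap R B π * ((X ⟨Sum.inl i⟩ : P') ⊗ₜ[P] (1 : S)) := fun i => by
    rw [hiB, show algebraMap A S (g i) = (X (Sum.inl i) : P) • (1 : S) by
      rw [Algebra.smul_def, mul_one]; exact (aeval_X (R := R) (Sum.elim (fun i => algebraMap A S (g i)) g') (Sum.inl i)).symm, TensorProduct.tmul_smul,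
      TensorProduct.smul_tmul', Algebra.smul_def, mul_one]
    show (dilate π r m (X (Sum.inl i))) ⊗ₜ[P] (1 : S) = (algebraMap R P' π ⊗ₜ[P] (1 : S)) * _
    rw [Algebra.TensorProduct.tmul_mul_tmul, one_mul, dilate, aeval_X, Sum.elim_inl]
    rfl
  have hfu : IsUnit (iB f) :=
    (IsLocalization.Away.algebraMap_isUnit (S := S) f).map (Algebra.TensorProduct.includeRight : S →ₐ[P] B)
  have hdiv : ∀ z ∈ p, ∃ b, algebraMap R B π * b = iB z := by
    intro z hz
    obtain ⟨e, he⟩ := hgen z hz
    have hle : Ideal.span (Set.range g) ⊔ Ideal.span {algebraMap R A π} ≤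
        (Ideal.span {algebraMap R B π}).comap iB.toRingHom := by
      refine sup_le (Ideal.span_le.2 ?_) (Ideal.span_le.2 ?_)
      · rintro _ ⟨i, rfl⟩
        exact Ideal.mem_span_singleton'.2 ⟨_, (mul_comm _ _).trans (hiBg i).symm⟩
      · rintro _ rfl
        exact Ideal.mem_span_singleton'.2 ⟨1, (one_mul _).trans (iB.commutes π).symm⟩
    have h1 := hle he
    rw [Ideal.mem_comap] at h1
    have h1' : iB f ^ e * iB z ∈ Ideal.span {algebraMap R B π} := by
      rw [← map_pow, ← map_mul]; exact h1
    obtain ⟨b, hb⟩ := Ideal.mem_span_singleton'.1 ((Ideal.unit_mul_mem_iff_mem _ (hfu.pow e)).1 h1')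
    exact ⟨b, (mul_comm _ _).trans hb⟩
  -- the map from the blowup algebra
  let πA := algebraMap R A π
  let A' := BlowUp.affineAlgebra A p πA
  let BL := Localization.Away (iB πA)
  let L : Localization.Away πA →+* BL := Localization.awayMap iB.toRingHom πA
  have hinj : Function.Injective (algebraMap B BL) := by
    refine IsLocalization.injective BL (M := Submonoid.powers (iB πA)) ?_
    rw [Submonoid.powers_le, mem_nonZeroDivisors_iff]
    refine ⟨fun x hx => hregB x ?_, fun x hx => hregB x ?_⟩
    · rwa [iB.commutes] at hx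
    · rwa [iB.commutes, mul_comm] at hx
  have hL : ∀ a : A, L (algebraMap A _ a) = algebraMap B BL (iB a) := fun a =>
    IsLocalization.map_eq (S := Localization.Away πA) _ a
  have hrange : ∀ z : A', L z.1 ∈ (algebraMap B BL).range := by
    rintro ⟨z, hz⟩
    show L z ∈ _
    induction hz using Algebra.adjoin_induction with
    | mem q hq =>
      obtain ⟨x, hx, rfl⟩ := hq
      obtain ⟨b, hb⟩ := hdiv x hx
      refine ⟨b, ?_⟩
      have h1 := congrArg L (IsLocalization.mk'_spec (Localization.Away πA) x ⟨πA, Submonoid.mem_powers πA⟩)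
      rw [map_mul, hL, hL] at h1
      refine (IsLocalization.Away.algebraMap_isUnit (S := BL) (iB πA)).mul_right_cancel ?_
      rw [h1, ← map_mul]
      congr 1
      rw [show iB πA = algebraMap R B π from iB.commutes π, mul_comm, hb]
    | algebraMap a => exact ⟨iB a, (hL a).symm⟩
    | add a b _ _ ha hb => rw [map_add]; exact add_mem ha hb
    | mul a b _ _ ha hb => rw [map_mul]; exact mul_mem ha hb
  let Φ : A' →+* B := (RingEquiv.ofBijective (algebraMap B BL).rangeRestrict
    ⟨fun a b h => hinj (congrArg Subtype.val h), (algebraMap B BL).rangeRestrict_surjective⟩).symm.toRingHom.comp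
      ((L.comp A'.val.toRingHom).codRestrict (algebraMap B BL).range hrange)
  have hΦ : ∀ z : A', algebraMap B BL (Φ z) = L z.1 := fun z =>
    congrArg Subtype.val ((RingEquiv.ofBijective (algebraMap B BL).rangeRestrict
      ⟨fun a b h => hinj (congrArg Subtype.val h), (algebraMap B BL).rangeRestrict_surjective⟩).apply_symm_apply
        ((L.comp A'.val.toRingHom).codRestrict (algebraMap B BL).range hrange z))
  have hΦA : ∀ a : A, Φ (algebraMap A A' a) = iB a := fun a => hinj ((hΦ _).trans (hL a))
  let C' := Localization.Away (algebraMap A A' f)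
  let ΦC : C' →+* B := IsLocalization.Away.lift (algebraMap A A' f) (g := Φ) (by rw [hΦA]; exact hfu)
  have hΦC : ∀ z : A', ΦC (algebraMap A' C' z) = Φ z := fun z => IsLocalization.Away.lift_eq _ _ z
  have hAC : ∀ a : A, algebraMap A C' a = algebraMap A' C' (algebraMap A A' a) := fun a =>
    IsScalarTower.algebraMap_apply A A' C' a
  have hRC : ∀ x : R, algebraMap R C' x = algebraMap A C' (algebraMap R A x) := fun x => by
    rw [hAC, ← IsScalarTower.algebraMap_apply R A A', ← IsScalarTower.algebraMap_apply R A' C']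
  -- `π` is regular on `C'`
  have hregA : ∀ z : A', algebraMap A A' πA * z = 0 → z = 0 := fun z hz => Subtype.ext
    ((IsLocalization.Away.algebraMap_isUnit (S := Localization.Away πA) πA).mul_right_eq_zero.1
      (congrArg Subtype.val hz))
  have hregC : ∀ c : C', algebraMap R C' π * c = 0 → c = 0 := by
    intro c hc
    obtain ⟨n, z, hz⟩ := IsLocalization.Away.surj (S := C') (algebraMap A A' f) c
    have h1 : algebraMap A' C' (algebraMap A A' πA * z) = 0 := by
      rw [map_mul, ← hz, ← hAC, ← hRC, ← mul_assoc, hc, zero_mul]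
    obtain ⟨⟨_, ⟨k, rfl⟩⟩, hk⟩ := (IsLocalization.map_eq_zero_iff (Submonoid.powers (algebraMap A A' f)) C' _).1 h1
    have h2 : algebraMap A A' f ^ k * z = 0 := hregA _ (by rw [← hk]; ring)
    have h3 : algebraMap A' C' z = 0 :=
      (IsLocalization.map_eq_zero_iff (Submonoid.powers (algebraMap A A' f)) C' _).2 ⟨⟨_, ⟨k, rfl⟩⟩, h2⟩
    rw [h3] at hz
    exact ((IsLocalization.Away.algebraMap_isUnit (S := C') (algebraMap A A' f)).pow n).mul_left_eq_zero.1 hz
  -- the inverse map
  let sC : S →+* C' := IsLocalization.Away.lift f (g := algebraMap A C') (by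
    rw [hAC]; exact IsLocalization.Away.algebraMap_isUnit _)
  have hsC : ∀ a, sC (algebraMap A S a) = algebraMap A C' a := fun a => IsLocalization.Away.lift_eq _ _ a
  have hsCR : ∀ x, sC (algebraMap R S x) = algebraMap R C' x := fun x => by
    rw [IsScalarTower.algebraMap_apply R A S, hsC, hRC]
  let t : Fin r → A' := fun i => ⟨IsLocalization.mk' (Localization.Away πA) (g i) ⟨πA, Submonoid.mem_powers πA⟩,
    Algebra.subset_adjoin ⟨g i, hg i, rfl⟩⟩
  have ht : ∀ i, algebraMap A A' πA * t i = algebraMap A A' (g i) := fun i => Subtype.ext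
    ((mul_comm _ _).trans (IsLocalization.mk'_spec (Localization.Away πA) (g i) ⟨πA, Submonoid.mem_powers πA⟩))
  let ψ' : P' →ₐ[R] C' :=
    aeval fun i => Sum.elim (fun a => algebraMap A' C' (t a)) (fun b => sC (g' b)) i.down
  letI : Algebra P C' := (sC.comp (algebraMap P S)).toAlgebra
  have hcompat : ψ'.toRingHom.comp (algebraMap P P') = algebraMap P C' := by
    refine ringHom_ext (fun x => ?_) fun i => ?_
    · show ψ' (dilate π r m (C x)) = sC (ψ (C x))
      rw [← algebraMap_eq, AlgHom.commutes, AlgHom.commutes, AlgHom.commutes, hsCR]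
    · show ψ' (dilate π r m (X i)) = sC (ψ (X i))
      rw [dilate, aeval_X, aeval_X]
      rcases i with a | b
      · rw [Sum.elim_inl, Sum.elim_inl, map_mul, aeval_C, aeval_X, hsC, hRC, hAC, hAC]
        show algebraMap A' C' (algebraMap A A' πA) * algebraMap A' C' (t a) = _
        rw [← map_mul, ht]
      · rw [Sum.elim_inr, Sum.elim_inr, aeval_X]
        rfl
  let ψP : P' →ₐ[P] C' := { ψ'.toRingHom with commutes' := fun x => RingHom.congr_fun hcompat x }
  let σP : S →ₐ[P] C' := { sC with commutes' := fun _ => rfl }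
  let Ψ : B →ₐ[P] C' := Algebra.TensorProduct.lift ψP σP fun _ _ => Commute.all _ _
  have hΨ : ∀ x s, Ψ (x ⊗ₜ[P] s) = ψ' x * sC s := fun x s => Algebra.TensorProduct.lift_tmul ψP σP _ x s
  have hΨiB : ∀ a, Ψ (iB a) = algebraMap A C' a := fun a => by rw [hiB, hΨ, map_one, one_mul, hsC]
  -- `ΦC ∘ Ψ = id`
  have hΦS : ∀ s : S, ΦC (sC s) = (1 : P') ⊗ₜ[P] s := by
    intro s
    refine RingHom.congr_fun (?_ : ΦC.comp sC = (Algebra.TensorProduct.includeRight : S →ₐ[P] B).toRingHom) s
    refine IsLocalization.ringHom_ext (Submonoid.powers f) (RingHom.ext fun a => ?_)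
    show ΦC (sC (algebraMap A S a)) = iB a
    rw [hsC, hAC, hΦC, hΦA]
  have hΦP : ∀ x : P', ΦC (ψ' x) = x ⊗ₜ[P] (1 : S) := by
    intro x
    refine RingHom.congr_fun (?_ : ΦC.comp ψ'.toRingHom = Algebra.TensorProduct.includeLeftRingHom) x
    refine ringHom_ext (fun c => ?_) fun i => ?_
    · show ΦC (ψ' (C c)) = _
      rw [← algebraMap_eq, AlgHom.commutes, hRC, hAC, hΦC, hΦA, AlgHom.commutes]
      rfl
    · show ΦC (ψ' (X i)) = _
      rw [aeval_X]
      rcases i with ⟨a | b⟩
      · show ΦC (algebraMap A' C' (t a)) = (X ⟨Sum.inl a⟩ : P') ⊗ₜ[P] (1 : S)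
        rw [hΦC, ← sub_eq_zero]
        refine hregB _ ?_
        rw [mul_sub, sub_eq_zero, ← hiBg a, ← hΦA (g a), ← ht, map_mul, hΦA, iB.commutes]
      · show ΦC (sC (g' b)) = _
        rw [hΦS]
        have : g' b = (X (Sum.inr b) : P) • (1 : S) := by
          rw [Algebra.smul_def, mul_one]; exact (aeval_X (R := R) (Sum.elim (fun i => algebraMap A S (g i)) g') (Sum.inr b)).symm
        rw [this, TensorProduct.tmul_smul, TensorProduct.smul_tmul', Algebra.smul_def, mul_one]
        show (dilate π r m (X (Sum.inr b))) ⊗ₜ[P] (1 : S) = _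
        rw [dilate, aeval_X]
        rfl
  have h1 : ∀ b : B, ΦC (Ψ b) = b := by
    intro b
    induction b using TensorProduct.induction_on with
    | zero => rw [map_zero, map_zero]
    | add x y hx hy => rw [map_add, map_add, hx, hy]
    | tmul x s =>
      rw [hΨ, map_mul, hΦP, hΦS, Algebra.TensorProduct.tmul_mul_tmul, mul_one, one_mul]
  have h2 : ∀ c : C', Ψ (ΦC c) = c := by
    intro c
    refine RingHom.congr_fun (?_ : Ψ.toRingHom.comp ΦC = RingHom.id C') c
    refine IsLocalization.ringHom_ext (Submonoid.powers (algebraMap A A' f)) (RingHom.ext fun z => ?_)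
    show Ψ (ΦC (algebraMap A' C' z)) = algebraMap A' C' z
    rw [hΦC]
    obtain ⟨n, a, ha⟩ := IsLocalization.Away.surj (S := Localization.Away πA) πA z.1
    have haz : z * algebraMap A A' πA ^ n = algebraMap A A' a := Subtype.ext ha
    have key : (Ψ (Φ z) - algebraMap A' C' z) * algebraMap R C' π ^ n = 0 := by
      have e1 := congrArg (fun w => Ψ (Φ w)) haz
      have e2 := congrArg (algebraMap A' C') haz
      simp only [map_mul, map_pow, hΦA] at e1
      rw [map_mul, map_pow, ← hAC, ← hAC] at e2
      rw [hΨiB, hΨiB] at e1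
      rw [sub_mul, hRC]
      exact sub_eq_zero.2 (e1.trans e2.symm)
    have hreg' : ∀ (n : ℕ) (c : C'), c * algebraMap R C' π ^ n = 0 → c = 0 := by
      intro n
      induction n with
      | zero => intro c hc; simpa using hc
      | succ n ih => intro c hc; exact ih c (hregC _ (by rw [← hc]; ring))
    exact sub_eq_zero.1 (hreg' n _ key)
  exact Algebra.Smooth.of_equiv
    ({ RingEquiv.ofRingHom Ψ.toRingHom ΦC (RingHom.ext h2) (RingHom.ext h1) with
      commutes' := fun x => by
        show Ψ (algebraMap R B x) = _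
        rw [← iB.commutes x, hΨiB, hRC] } : B ≃ₐ[R] C')

end Groth.Agent.H8Props.NeronBlowup
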