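import Groth.Agent.H8Props.NeronBlowup.Coords
import Groth.Agent.H02CA.GeomReducedField
import Mathlib.RingTheory.Nilpotent.GeometricallyReduced

/-!
# Parameters at a point of the special fibre with separable residue field
-/

set_option autoImplicit false
set_option linter.unusedSectionVars false
set_option linter.style.haveILetI false
set_option maxHeartbeats 1600000
set_option synthInstance.maxHeartbeats 200000
set_option backward.isDefEq.respectTransparency false
universe u

open TensorProduct IsLocalRing
open scoped KaehlerDifferential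

namespace Groth.Agent.H8Props.NeronBlowup

/-- Formal smoothness of the local ring of the special fibre. -/
theorem formallySmooth_specialFibre {R k A Ab : Type u} [CommRing R] [CommRing k] [CommRing A] [CommRing Ab]
    [Algebra R k] [Algebra R A] [Algebra R Ab] [Algebra k Ab] [Algebra A Ab] [IsScalarTower R k Ab]
    [IsScalarTower R A Ab] (hk : Function.Surjective (algebraMap R k)) (hA : Function.Surjective (algebraMap A Ab))
    (hker : RingHom.ker (algebraMap A Ab) = (RingHom.ker (algebraMap R k)).map (algebraMap R A))
    (p : Ideal A) [p.IsPrime] [Algebra.IsSmoothAt R p] (pb : Ideal Ab) [pb.IsPrime]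
    (hp : pb.comap (algebraMap A Ab) = p) :
    Algebra.FormallySmooth k (Localization.AtPrime pb) := by
  rw [Algebra.FormallySmooth.iff_comp_surjective]
  intro C _ _ I hI f
  letI : Algebra R C := ((algebraMap k C).comp (algebraMap R k)).toAlgebra
  haveI : IsScalarTower R k C := IsScalarTower.of_algebraMap_eq fun _ => rfl
  let θ : Localization.AtPrime p →ₐ[R] Localization.AtPrime pb :=
    { Localization.localRingHom p pb (algebraMap A Ab) hp.symm with
      commutes' := fun r => by
        show Localization.localRingHom p pb _ hp.symm (algebraMap R _ r) = _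
        rw [IsScalarTower.algebraMap_apply R A (Localization.AtPrime p), Localization.localRingHom_to_map,
          ← IsScalarTower.algebraMap_apply R A Ab, ← IsScalarTower.algebraMap_apply R Ab] }
  obtain ⟨h, hh⟩ := Algebra.FormallySmooth.comp_surjective R (Localization.AtPrime p) I hI
    ((f.restrictScalars R).comp θ)
  let h₀ : A →+* C := h.toRingHom.comp (algebraMap A (Localization.AtPrime p))
  have hh₀ : ∀ r, h₀ (algebraMap R A r) = algebraMap R C r := fun r => by
    show h (algebraMap A _ (algebraMap R A r)) = _
    rw [← IsScalarTower.algebraMap_apply R A (Localization.AtPrime p), AlgHom.commutes]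
  have hkill : RingHom.ker (algebraMap A Ab) ≤ RingHom.ker h₀ := by
    rw [hker, Ideal.map_le_iff_le_comap]
    intro r hr
    rw [Ideal.mem_comap, RingHom.mem_ker, hh₀, IsScalarTower.algebraMap_apply R k C,
      RingHom.mem_ker.1 hr, map_zero]
  let g₀ : Ab →+* C := (algebraMap A Ab).liftOfSurjective hA ⟨h₀, hkill⟩
  have hg₀ : ∀ a, g₀ (algebraMap A Ab a) = h₀ a := fun a =>
    RingHom.liftOfSurjective_comp_apply (algebraMap A Ab) hA ⟨h₀, hkill⟩ a
  let gA : Ab →ₐ[k] C :=
    { g₀ with
      commutes' := fun c => by
        obtain ⟨r, rfl⟩ := hk c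
        show g₀ (algebraMap k Ab (algebraMap R k r)) = _
        rw [← IsScalarTower.algebraMap_apply R k Ab, IsScalarTower.algebraMap_apply R A Ab, hg₀, hh₀,
          IsScalarTower.algebraMap_apply R k C] }
  have hu : ∀ y : pb.primeCompl, IsUnit (gA y) := by
    rintro ⟨y, hy⟩
    obtain ⟨a, rfl⟩ := hA y
    show IsUnit (g₀ (algebraMap A Ab a))
    rw [hg₀]
    exact (IsLocalization.map_units (Localization.AtPrime p)
      (⟨a, fun ha => hy (hp.ge ha)⟩ : p.primeCompl)).map h.toRingHom
  let G : Localization.AtPrime pb →ₐ[k] C := IsLocalization.liftAlgHom hu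
  refine ⟨G, AlgHom.coe_ringHom_injective (IsLocalization.ringHom_ext pb.primeCompl
    (RingHom.ext fun y => ?_))⟩
  obtain ⟨a, rfl⟩ := hA y
  show Ideal.Quotient.mk I (G (algebraMap Ab _ (algebraMap A Ab a))) = f (algebraMap Ab _ (algebraMap A Ab a))
  have e1 : G (algebraMap Ab _ (algebraMap A Ab a)) = g₀ (algebraMap A Ab a) := IsLocalization.lift_eq _ _
  rw [e1, hg₀]
  show Ideal.Quotient.mk I (h (algebraMap A _ a)) = _
  have := DFunLike.congr_fun hh (algebraMap A (Localization.AtPrime p) a)
  refine this.trans ?_
  show f (Localization.localRingHom p pb _ hp.symm (algebraMap A _ a)) = _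
  rw [Localization.localRingHom_to_map]

/-- A point with geometrically reduced residue field is a smooth point of its reduced closure. -/
theorem isSmoothAt_bot {k D T : Type u} [Field k] [CommRing D] [IsDomain D] [Algebra k D]
    [Algebra.EssFiniteType k D] [Field T] [Algebra k T] [Algebra.IsGeometricallyReduced k T]
    (j : D →ₐ[k] T) (hj : Function.Injective j) : Algebra.IsSmoothAt k (⊥ : Ideal D) := by
  haveI : Algebra.EssFiniteType D (FractionRing D) :=
    Algebra.EssFiniteType.of_isLocalization _ (nonZeroDivisors D)
  haveI : Algebra.EssFiniteType k (FractionRing D) := Algebra.EssFiniteType.comp k D _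
  let σ : FractionRing D →ₐ[k] T := IsFractionRing.liftAlgHom (g := j) hj
  haveI : Algebra.IsGeometricallyReduced k (FractionRing D) :=
    Algebra.IsGeometricallyReduced.of_injective σ σ.toRingHom.injective
  haveI : Algebra.FormallySmooth k (FractionRing D) :=
    H02CA.formallySmooth_of_isGeometricallyReduced k (FractionRing D)
  haveI : IsLocalization (⊥ : Ideal D).primeCompl (FractionRing D) := by
    rw [Ideal.primeCompl_bot]
    infer_instance
  exact Algebra.FormallySmooth.of_equiv ((IsLocalization.algEquiv (⊥ : Ideal D).primeCompl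
    (FractionRing D) (Localization.AtPrime (⊥ : Ideal D))).restrictScalars k)

/-- Independence of differentials is detected on the special fibre. -/
theorem linearIndependent_of_specialFibre {R k A Ab : Type u} [CommRing R] [CommRing k] [CommRing A] [CommRing Ab]
    [Algebra R k] [Algebra R A] [Algebra R Ab] [Algebra k Ab] [Algebra A Ab] [IsScalarTower R k Ab]
    [IsScalarTower R A Ab] (p : Ideal A) [p.IsPrime] (pb : Ideal Ab) [pb.IsPrime]
    (hp : pb.comap (algebraMap A Ab) = p) {r : ℕ} (g : Fin r → A)
    (hw : LinearIndependent (ResidueField (Localization.AtPrime pb)) fun i =>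
      (1 : ResidueField (Localization.AtPrime pb)) ⊗ₜ[Localization.AtPrime pb]
        KaehlerDifferential.D k (Localization.AtPrime pb)
          (algebraMap Ab (Localization.AtPrime pb) (algebraMap A Ab (g i)))) :
    LinearIndependent (ResidueField (Localization.AtPrime p)) fun i =>
      (1 : ResidueField (Localization.AtPrime p)) ⊗ₜ[Localization.AtPrime p]
        KaehlerDifferential.D R (Localization.AtPrime p) (algebraMap A (Localization.AtPrime p) (g i)) := by
  let S := Localization.AtPrime p
  let T := Localization.AtPrime pb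
  letI : Algebra S T := (Localization.localRingHom p pb (algebraMap A Ab) hp.symm).toAlgebra
  haveI : IsScalarTower R S T := IsScalarTower.of_algebraMap_eq fun r => by
    show _ = Localization.localRingHom p pb _ hp.symm (algebraMap R S r)
    rw [IsScalarTower.algebraMap_apply R A S, Localization.localRingHom_to_map,
      ← IsScalarTower.algebraMap_apply R A Ab, ← IsScalarTower.algebraMap_apply R Ab]
  haveI : SMulCommClass k S T := ⟨fun a b x => by
    rw [Algebra.smul_def, Algebra.smul_def, Algebra.smul_def, Algebra.smul_def]; ring⟩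
  haveI : IsLocalHom (algebraMap S T) := Localization.isLocalHom_localRingHom p pb _ hp.symm
  rw [Fintype.linearIndependent_iff]
  intro c hc i
  choose c' hc' using fun i => residue_surjective (c i)
  let ω : Ω[S⁄R] := ∑ j, c' j • KaehlerDifferential.D R S (algebraMap A S (g j))
  have hω0 : (1 : ResidueField S) ⊗ₜ[S] ω = 0 := by
    rw [TensorProduct.tmul_sum]
    refine Eq.trans (Finset.sum_congr rfl fun j _ => ?_) hc
    rw [← TensorProduct.smul_tmul, TensorProduct.smul_tmul', ← hc' j, smul_eq_mul, mul_one, Algebra.smul_def, mul_one]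
    rfl
  have hω : ω ∈ maximalIdeal S • (⊤ : Submodule S Ω[S⁄R]) := by
    have h1 := congrArg (TensorProduct.quotTensorEquivQuotSMul Ω[S⁄R] (maximalIdeal S)) hω0
    erw [TensorProduct.quotTensorEquivQuotSMul_mk_tmul] at h1
    rw [map_zero, one_smul] at h1
    exact (Submodule.Quotient.mk_eq_zero _).1 h1
  let Φ := KaehlerDifferential.map R k S T
  have hΦ : ∀ z ∈ maximalIdeal S • (⊤ : Submodule S Ω[S⁄R]), (1 : ResidueField T) ⊗ₜ[T] Φ z = 0 := by
    intro z hz
    refine Submodule.smul_induction_on hz (fun a ha x _ => ?_) fun a b ha hb => by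
      rw [map_add, TensorProduct.tmul_add, ha, hb, add_zero]
    rw [map_smul, algebra_compatible_smul T a, ← TensorProduct.smul_tmul, Algebra.smul_def, mul_one,
      ResidueField.algebraMap_eq, (residue_eq_zero_iff _).2 (map_nonunit (algebraMap S T) a ha),
      TensorProduct.zero_tmul]
  have h2 := hΦ ω hω
  rw [map_sum, TensorProduct.tmul_sum] at h2
  have h3 := Fintype.linearIndependent_iff.1 hw (fun j => residue T (algebraMap S T (c' j)))
    (by
      refine Eq.trans (Finset.sum_congr rfl fun j _ => ?_) h2
      rw [map_smul, algebra_compatible_smul T (c' j), KaehlerDifferential.map_D, ← TensorProduct.smul_tmul,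
        Algebra.smul_def, mul_one, ResidueField.algebraMap_eq, TensorProduct.smul_tmul', smul_eq_mul, mul_one]
      rw [show algebraMap S T (algebraMap A S (g j)) = algebraMap Ab T (algebraMap A Ab (g j)) from
        Localization.localRingHom_to_map p pb (algebraMap A Ab) hp.symm (g j)]) i
  rw [← hc' i, residue_eq_zero_iff]
  rw [residue_eq_zero_iff] at h3
  exact fun hu => h3 (hu.map (algebraMap S T))

/-- Parameters of a point of the special fibre whose residue field is separable over the residue field
of the base. -/
theorem exists_params {R A T : Type u} [CommRing R] [IsLocalRing R] [IsNoetherianRing R] [CommRing A] [Algebra R A]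
    [Algebra.FiniteType R A] (p : Ideal A) [p.IsPrime] [Algebra.IsSmoothAt R p]
    (hp : (maximalIdeal R).map (algebraMap R A) ≤ p) [Field T] [Algebra (ResidueField R) T]
    [Algebra.IsGeometricallyReduced (ResidueField R) T] (ι : A →+* T) (hι : RingHom.ker ι = p)
    (hιR : ∀ r, ι (algebraMap R A r) = algebraMap (ResidueField R) T (residue R r)) :
    ∃ (r : ℕ) (g : Fin r → A), (∀ i, g i ∈ p) ∧
      (∀ z ∈ p, ∃ t ∉ p, t * z ∈ Ideal.span (Set.range g) ⊔ (maximalIdeal R).map (algebraMap R A)) ∧
      LinearIndependent (ResidueField (Localization.AtPrime p)) fun i =>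
        (1 : ResidueField (Localization.AtPrime p)) ⊗ₜ[Localization.AtPrime p]
          KaehlerDifferential.D R (Localization.AtPrime p) (algebraMap A (Localization.AtPrime p) (g i)) := by
  let M := (maximalIdeal R).map (algebraMap R A)
  let Ab := A ⧸ M
  letI : Algebra (ResidueField R) Ab := (Ideal.Quotient.lift (maximalIdeal R)
    ((Ideal.Quotient.mk M).comp (algebraMap R A)) fun r hr =>
      Ideal.Quotient.eq_zero_iff_mem.2 (Ideal.mem_map_of_mem _ hr)).toAlgebra
  haveI : IsScalarTower R (ResidueField R) Ab := IsScalarTower.of_algebraMap_eq fun _ => rfl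
  haveI : Algebra.FiniteType R Ab :=
    Algebra.FiniteType.of_surjective (Ideal.Quotient.mkₐ R M) (Ideal.Quotient.mkₐ_surjective R M)
  haveI : Algebra.FiniteType (ResidueField R) Ab :=
    Algebra.FiniteType.of_restrictScalars_finiteType R (ResidueField R) Ab
  let pb : Ideal Ab := p.map (Ideal.Quotient.mk M)
  haveI : pb.IsPrime :=
    Ideal.map_isPrime_of_surjective Ideal.Quotient.mk_surjective (by rw [Ideal.mk_ker]; exact hp)
  have hcp : pb.comap (Ideal.Quotient.mk M) = p := by
    rw [Ideal.comap_map_of_surjective' _ Ideal.Quotient.mk_surjective, Ideal.mk_ker, sup_eq_left.mpr hp]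
  haveI : Algebra.IsSmoothAt (ResidueField R) pb :=
    formallySmooth_specialFibre (R := R) (A := A) residue_surjective Ideal.Quotient.mk_surjective
      (by rw [Ideal.Quotient.algebraMap_eq, Ideal.mk_ker, ResidueField.algebraMap_eq, ker_residue]) p pb hcp
  let ιb : Ab →ₐ[ResidueField R] T :=
    { Ideal.Quotient.lift M ι fun z hz => RingHom.mem_ker.1 (hι.ge (hp hz)) with
      commutes' := fun c => by
        obtain ⟨r, rfl⟩ := residue_surjective c
        exact hιR r }
  let jb : Ab ⧸ pb →ₐ[ResidueField R] T := Ideal.Quotient.liftₐ pb ιb fun z hz => by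
    obtain ⟨a, rfl⟩ := Ideal.Quotient.mk_surjective z
    exact RingHom.mem_ker.1 (hι.ge (hcp.le hz))
  have hjb : Function.Injective jb := by
    rw [injective_iff_map_eq_zero]
    intro z hz
    obtain ⟨y, rfl⟩ := Ideal.Quotient.mk_surjective z
    obtain ⟨a, rfl⟩ := Ideal.Quotient.mk_surjective y
    exact Ideal.Quotient.eq_zero_iff_mem.2 (hcp.ge (hι.le (RingHom.mem_ker.2 hz)))
  haveI : IsDomain (Ab ⧸ pb) := Ideal.Quotient.isDomain pb
  haveI : Algebra.IsSmoothAt (ResidueField R) (⊥ : Ideal (Ab ⧸ pb)) := isSmoothAt_bot jb hjb
  haveI : IsNoetherianRing Ab := Algebra.FiniteType.isNoetherianRing (ResidueField R) Ab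
  obtain ⟨r, gb, hgb, hgen, hmin⟩ := H8Norm.SmoothCoords.exists_min_gens pb (IsNoetherian.noetherian pb) pb
  have hQ : (⊥ : Ideal (Ab ⧸ pb)).comap (Ideal.Quotient.mk pb) = pb := Ideal.mk_ker
  have hwb := H06Unram.AdaptedCoords.linearIndependent_D (A := ResidueField R) le_rfl hQ hgb hgen hmin
  choose g hg using fun i => Ideal.Quotient.mk_surjective (gb i)
  refine ⟨r, g, fun i => hcp.le (show Ideal.Quotient.mk M (g i) ∈ pb from hg i ▸ hgb i), fun z hz => ?_,
    linearIndependent_of_specialFibre (k := ResidueField R) p pb hcp g (by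
      convert hwb using 2 with i
      rw [show algebraMap A Ab (g i) = gb i from hg i])⟩
  obtain ⟨tb, htb, hmem⟩ := H06Unram.AdaptedCoords.exists_mul_mem_span hgen
    (Ideal.mem_map_of_mem (Ideal.Quotient.mk M) hz)
  obtain ⟨t, rfl⟩ := Ideal.Quotient.mk_surjective tb
  refine ⟨t, fun ht => htb (Ideal.mem_map_of_mem _ ht), ?_⟩
  have h1 : t * z ∈ ((Ideal.span (Set.range g)).map (Ideal.Quotient.mk M)).comap (Ideal.Quotient.mk M) := by
    rw [Ideal.mem_comap, map_mul, Ideal.map_span, ← Set.range_comp]
    rwa [show (Ideal.Quotient.mk M) ∘ g = gb from funext hg]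
  rwa [Ideal.comap_map_of_surjective' _ Ideal.Quotient.mk_surjective, Ideal.mk_ker] at h1

/-- A point of a smooth basic open is a smooth point. -/
theorem isSmoothAt_of_smooth_away {R A : Type u} [CommRing R] [CommRing A] [Algebra R A] (p : Ideal A) [p.IsPrime]
    (f : A) (hf : f ∉ p) [Algebra.Smooth R (Localization.Away f)] : Algebra.IsSmoothAt R p := by
  have hle : Submonoid.powers f ≤ p.primeCompl := Submonoid.powers_le.2 hf
  letI := IsLocalization.localizationAlgebraOfSubmonoidLe (Localization.Away f) (Localization.AtPrime p)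
    (Submonoid.powers f) p.primeCompl hle
  haveI : IsScalarTower A (Localization.Away f) (Localization.AtPrime p) :=
    IsLocalization.localization_isScalarTower_of_submonoid_le _ _ (Submonoid.powers f) p.primeCompl hle
  haveI : IsScalarTower R (Localization.Away f) (Localization.AtPrime p) := IsScalarTower.to₁₃₄ R A _ _
  haveI := IsLocalization.isLocalization_of_submonoid_le (Localization.Away f) (Localization.AtPrime p)
    (Submonoid.powers f) p.primeCompl hle
  haveI : Algebra.FormallySmooth (Localization.Away f) (Localization.AtPrime p) :=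
    Algebra.FormallySmooth.of_isLocalization (p.primeCompl.map (algebraMap A (Localization.Away f)))
  exact Algebra.FormallySmooth.comp R (Localization.Away f) (Localization.AtPrime p)

end Groth.Agent.H8Props.NeronBlowup
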